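import Mathlib

/-! `A_f` is Jacobson for `f` in the Jacobson radical of a Noetherian ring. -/

set_option autoImplicit false
universe u

namespace GrothLib.JacAway4

section Domain

variable {D : Type u} [CommRing D] [IsNoetherianRing D] [IsDomain D]

theorem eq_of_le_of_height_le_one {P' P : Ideal D} [P'.IsPrime] [P.IsPrime] (h0 : P' ≠ ⊥)
    (hle : P' ≤ P) (h1 : P.height ≤ 1) : P' = P := by
  by_contra hne
  have h01 : 1 ≤ P'.height := by
    rw [ENat.one_le_iff_ne_zero, Ne, Ideal.height_eq_zero_iff,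
      IsDomain.minimalPrimes_eq_singleton_bot]
    exact h0
  exact absurd ((Ideal.height_strict_mono_of_isPrime_of_isPrime (lt_of_le_of_ne hle hne)).trans_le h1)
    (not_lt.2 h01)

/-- If every nonzero prime contains `h ≠ 0` then every nonzero prime is maximal. -/
theorem isMaximal_of_forall_mem {h : D} (hne : h ≠ 0)
    (hh : ∀ P : Ideal D, P.IsPrime → P ≠ ⊥ → h ∈ P) {P : Ideal D} [P.IsPrime] (hP : P ≠ ⊥) :
    P.IsMaximal := by
  classical
  have hfin : (Ideal.span {h}).minimalPrimes.Finite := Ideal.finite_minimalPrimes_of_isNoetherianRing D _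
  have key : ∀ Q : Ideal D, Q.IsPrime → Q ≠ ⊥ → Q ∈ (Ideal.span {h}).minimalPrimes := by
    intro Q hQ hQ0
    have hsub : ((Q : Set D)) ⊆ ⋃ M ∈ hfin.toFinset, (M : Set D) := by
      intro x hx
      rcases eq_or_ne x 0 with rfl | hx0
      · obtain ⟨M, hM, -⟩ := Ideal.exists_minimalPrimes_le
          ((Ideal.span_singleton_le_iff_mem _).2 (hh Q hQ hQ0))
        exact Set.mem_biUnion (hfin.mem_toFinset.2 hM) M.zero_mem
      · obtain ⟨T, hT, hTQ⟩ := Ideal.exists_minimalPrimes_le
          ((Ideal.span_singleton_le_iff_mem _).2 hx)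
        haveI := hT.1.1
        have hxT : x ∈ T := hT.1.2 (Ideal.mem_span_singleton_self x)
        have hT0 : T ≠ ⊥ := fun e => hx0 (by simpa [e] using hxT)
        obtain ⟨M, hM, hMT⟩ := Ideal.exists_minimalPrimes_le
          ((Ideal.span_singleton_le_iff_mem _).2 (hh T hT.1.1 hT0))
        haveI := hM.1.1
        have hM0 : M ≠ ⊥ := fun e => hne (by
          simpa [e] using hM.1.2 (Ideal.mem_span_singleton_self h))
        have e := eq_of_le_of_height_le_one hM0 hMT
          (Ideal.height_le_one_of_isPrincipal_of_mem_minimalPrimes _ _ hT)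
        exact Set.mem_biUnion (hfin.mem_toFinset.2 hM) (e ▸ hxT)
    obtain ⟨M, hM, hQM⟩ := (Ideal.subset_union_prime ⊥ ⊥
      (fun M hM _ _ => (hfin.mem_toFinset.1 hM).1.1)).1 hsub
    rw [hfin.mem_toFinset] at hM
    haveI := hM.1.1
    rwa [eq_of_le_of_height_le_one hQ0 hQM
      (Ideal.height_le_one_of_isPrincipal_of_mem_minimalPrimes _ _ hM)]
  obtain ⟨M, hM, hle⟩ := Ideal.exists_le_maximal P Ideal.IsPrime.ne_top'
  have hPh := key P inferInstance hP
  have hM0 : M ≠ ⊥ := fun e => hP (le_bot_iff.1 (e ▸ hle))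
  have hMh := key M hM.isPrime hM0
  exact (le_antisymm hle (hMh.2 hPh.1 hle)) ▸ hM

end Domain

theorem isJacobsonRing_away {A : Type u} [CommRing A] [IsNoetherianRing A] (f : A)
    (hf : f ∈ (⊥ : Ideal A).jacobson) : IsJacobsonRing (Localization.Away f) := by
  rw [isJacobsonRing_iff_prime_eq]
  intro P hP
  refine le_antisymm (fun g hg => ?_) Ideal.le_jacobson
  by_contra hgP
  obtain ⟨a, s, rfl⟩ := IsLocalization.exists_mk'_eq (Submonoid.powers f) g
  let p := P.comap (algebraMap A (Localization.Away f))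
  have hfp : f ∉ p := fun h =>
    hP.ne_top (Ideal.eq_top_of_isUnit_mem _ h (IsLocalization.Away.algebraMap_isUnit f))
  have hap : a ∉ p := fun h => hgP (IsLocalization.mk'_mem_iff.2 h)
  haveI : p.IsPrime := Ideal.IsPrime.comap _
  let B := Localization.Away (f * a)
  have hdisj : Disjoint (Submonoid.powers (f * a) : Set A) (p : Set A) := by
    rw [Set.disjoint_left]
    rintro _ ⟨n, rfl⟩ h
    rcases (‹p.IsPrime›.mem_or_mem ((‹p.IsPrime›).mem_of_pow_mem n h)) with h | h
    · exact hfp h
    · exact hap h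
  have hpB : p.map (algebraMap A B) ≠ ⊤ :=
    (IsLocalization.isPrime_of_isPrime_disjoint (Submonoid.powers (f * a)) B p ‹_› hdisj).ne_top
  obtain ⟨N, hN, hpN⟩ := Ideal.exists_le_maximal _ hpB
  let Q := N.comap (algebraMap A B)
  haveI : Q.IsPrime := Ideal.IsPrime.comap _
  have hQfa : f * a ∉ Q := fun h =>
    hN.ne_top (Ideal.eq_top_of_isUnit_mem _ h (IsLocalization.Away.algebraMap_isUnit (f * a)))
  have hpQ : p ≤ Q := Ideal.le_comap_of_map_le hpN
  have hmax : ∀ Q' : Ideal A, Q'.IsPrime → Q < Q' → f * a ∈ Q' := by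
    intro Q' hQ' hlt
    by_contra h
    have hd : Disjoint (Submonoid.powers (f * a) : Set A) (Q' : Set A) := by
      rw [Set.disjoint_left]
      rintro _ ⟨n, rfl⟩ h'
      exact h (hQ'.mem_of_pow_mem n h')
    have hne := (IsLocalization.isPrime_of_isPrime_disjoint (Submonoid.powers (f * a)) B Q' hQ' hd).ne_top
    have hNQ : N ≤ Q'.map (algebraMap A B) := by
      rw [← IsLocalization.map_comap (Submonoid.powers (f * a)) B N]
      exact Ideal.map_mono hlt.le
    have e := hN.eq_of_le hne hNQ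
    refine hlt.ne ?_
    show N.comap (algebraMap A B) = Q'
    rw [e]
    exact IsLocalization.comap_map_of_isPrime_disjoint (Submonoid.powers (f * a)) B hQ' hd
  have hfQ : f ∉ Q := fun h => hQfa (Q.mul_mem_right _ h)
  have hmax' : ∀ Q' : Ideal A, Q'.IsPrime → Q < Q' → f ∈ Q' := by
    intro Q' hQ' hlt
    by_contra h
    haveI := hQ'
    have hQD : Q'.map (Ideal.Quotient.mk Q) ≠ ⊥ := by
      rw [Ne, Ideal.map_eq_bot_iff_le_ker, Ideal.mk_ker]
      exact not_le_of_gt hlt
    haveI : (Q'.map (Ideal.Quotient.mk Q)).IsPrime := Ideal.map_isPrime_of_surjective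
      Ideal.Quotient.mk_surjective (by simpa using hlt.le)
    have hM : (Q'.map (Ideal.Quotient.mk Q)).IsMaximal := by
      refine isMaximal_of_forall_mem (h := Ideal.Quotient.mk Q (f * a))
        (fun e => hQfa (Ideal.Quotient.eq_zero_iff_mem.1 e)) (fun R hR hR0 => ?_) hQD
      haveI := hR
      have hlt' : Q < R.comap (Ideal.Quotient.mk Q) := by
        refine lt_of_le_of_ne (fun x hx => by simp [Ideal.Quotient.eq_zero_iff_mem.2 hx]) fun e => hR0 ?_
        rw [← Ideal.map_comap_of_surjective _ Ideal.Quotient.mk_surjective R, ← e,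
          Ideal.map_quotient_self]
      exact hmax _ (Ideal.IsPrime.comap _) hlt'
    have hM' : Q'.IsMaximal := by
      have := Ideal.comap_isMaximal_of_surjective (Ideal.Quotient.mk Q) Ideal.Quotient.mk_surjective
        (K := Q'.map (Ideal.Quotient.mk Q))
      rwa [Ideal.comap_map_of_surjective _ Ideal.Quotient.mk_surjective, ← RingHom.ker_eq_comap_bot,
        Ideal.mk_ker, sup_eq_left.2 hlt.le] at this
    exact h (Ideal.mem_sInf.1 hf ⟨bot_le, hM'⟩)
  -- the extension of `Q` is a maximal ideal over `P` avoiding `g`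
  have hdQ : Disjoint (Submonoid.powers f : Set A) (Q : Set A) := by
    rw [Set.disjoint_left]
    rintro _ ⟨n, rfl⟩ h'
    exact hfQ (‹Q.IsPrime›.mem_of_pow_mem n h')
  have hQp := IsLocalization.isPrime_of_isPrime_disjoint (Submonoid.powers f) (Localization.Away f) Q
    ‹_› hdQ
  have hcQ := IsLocalization.comap_map_of_isPrime_disjoint (Submonoid.powers f) (Localization.Away f)
    ‹Q.IsPrime› hdQ
  have hQm : (Q.map (algebraMap A (Localization.Away f))).IsMaximal := by
    obtain ⟨T, hT, hle⟩ := Ideal.exists_le_maximal _ hQp.ne_top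
    haveI := hT.isPrime
    have h1 : Q ≤ T.comap (algebraMap A _) := Ideal.le_comap_of_map_le hle
    rcases h1.eq_or_lt with e | e
    · rw [e, IsLocalization.map_comap (Submonoid.powers f) (Localization.Away f) T]
      exact hT
    · exact absurd (Ideal.eq_top_of_isUnit_mem T (Ideal.mem_comap.1 (hmax' _ (Ideal.IsPrime.comap _) e))
        (IsLocalization.Away.algebraMap_isUnit (S := Localization.Away f) f)) hT.ne_top
  have hPQ : P ≤ Q.map (algebraMap A (Localization.Away f)) := by
    rw [← IsLocalization.map_comap (Submonoid.powers f) (Localization.Away f) P]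
    exact Ideal.map_mono hpQ
  have := Ideal.mem_sInf.1 hg ⟨hPQ, hQm⟩
  replace this : a ∈ Q := hcQ ▸ Ideal.mem_comap.2 (IsLocalization.mk'_mem_iff.1 this)
  exact hQfa (Q.mul_mem_left _ this)

end GrothLib.JacAway4
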